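/-
Counting solutions of `x ^ n = 1`, and small semidirect products for computations.
-/
import Mathlib

set_option autoImplicit false

namespace CfsgLib.OrderType

/-- An action of `Q` on the additive group `M` by additive maps. -/
structure ActionData (Q M : Type) [Group Q] [AddCommGroup M] where
  act : Q → M → M
  act_add : ∀ q v w, act q (v + w) = act q v + act q w
  act_mul : ∀ a b v, act (a * b) v = act a (act b v)
  act_one : ∀ v, act 1 v = v

variable {Q M : Type} [Group Q] [AddCommGroup M]

theorem ActionData.act_zero (d : ActionData Q M) (q : Q) : d.act q 0 = 0 := by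
  have := d.act_add q 0 0
  simp only [add_zero] at this
  simpa using this

/-- The semidirect product attached to an action. -/
@[ext]
structure Sdp (d : ActionData Q M) where
  a : Q
  g : Multiplicative M
deriving DecidableEq

variable {d : ActionData Q M}

instance [Fintype Q] [Fintype M] : Fintype (Sdp d) :=
  Fintype.ofEquiv (Q × Multiplicative M)
    { toFun := fun p => ⟨p.1, p.2⟩, invFun := fun x => (x.a, x.g) }

instance instGroupSdp : Group (Sdp d) where
  mul x y := ⟨x.a * y.a,
    Multiplicative.ofAdd (Multiplicative.toAdd x.g + d.act x.a (Multiplicative.toAdd y.g))⟩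
  one := ⟨1, 1⟩
  inv x := ⟨x.a⁻¹, Multiplicative.ofAdd (- d.act x.a⁻¹ (Multiplicative.toAdd x.g))⟩
  mul_assoc x y z := by
    refine Sdp.ext (mul_assoc _ _ _) ?_
    show Multiplicative.ofAdd ((_ + _) + _) = Multiplicative.ofAdd (_ + d.act _ (_ + _))
    rw [d.act_add, ← d.act_mul, add_assoc]; rfl
  one_mul x := by
    refine Sdp.ext (one_mul _) ?_
    show Multiplicative.ofAdd (0 + d.act 1 _) = x.g
    rw [d.act_one, zero_add]; rfl
  mul_one x := by
    refine Sdp.ext (mul_one _) ?_
    show Multiplicative.ofAdd (_ + d.act _ 0) = x.g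
    rw [d.act_zero, add_zero]; rfl
  inv_mul_cancel x := by
    refine Sdp.ext (inv_mul_cancel _) ?_
    show Multiplicative.ofAdd (- d.act _ _ + d.act _ _) = 1
    rw [neg_add_cancel]; rfl

/-- The projection onto the acting group. -/
def proj : Sdp d →* Q where
  toFun x := x.a
  map_one' := rfl
  map_mul' _ _ := rfl

theorem isSolvable_sdp [Group.IsSolvable Q] : Group.IsSolvable (Sdp d) := by
  let i : Multiplicative M →* Sdp d :=
    { toFun := fun v => ⟨1, v⟩
      map_one' := rfl
      map_mul' := fun v w => Sdp.ext (one_mul 1).symm (by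
        show v * w = Multiplicative.ofAdd (_ + d.act 1 _)
        rw [d.act_one]; rfl) }
  refine Group.isSolvable_of_ker_le_range i proj fun x hx => ⟨x.g, Sdp.ext (Eq.symm hx) rfl⟩

/-- The norm map `v + q v + ... + q ^ (n - 1) v`. -/
def normSum (d : ActionData Q M) (q : Q) : ℕ → M → M
  | 0, _ => 0
  | n + 1, v => v + d.act q (normSum d q n v)

theorem pow_eq_normSum (x : Sdp d) (n : ℕ) :
    x ^ n = ⟨x.a ^ n, Multiplicative.ofAdd (normSum d x.a n (Multiplicative.toAdd x.g))⟩ := by
  induction n with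
  | zero => rw [pow_zero, pow_zero]; rfl
  | succ n ih => rw [pow_succ', ih, pow_succ']; rfl

/-- The product of two actions of the same group. -/
def ActionData.prod {M' : Type} [AddCommGroup M'] (d : ActionData Q M) (d' : ActionData Q M') :
    ActionData Q (M × M') where
  act q v := (d.act q v.1, d'.act q v.2)
  act_add q v w := Prod.ext (d.act_add q v.1 w.1) (d'.act_add q v.2 w.2)
  act_mul a b v := Prod.ext (d.act_mul a b v.1) (d'.act_mul a b v.2)
  act_one v := Prod.ext (d.act_one v.1) (d'.act_one v.2)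

/-- The number of vectors killed by the norm map. -/
def kerCount [Fintype M] [DecidableEq M] (d : ActionData Q M) (n : ℕ) (q : Q) : ℕ :=
  (Finset.univ.filter fun v : M => normSum d q n v = 0).card

theorem kerCount_prod [Fintype M] [DecidableEq M] {M' : Type} [AddCommGroup M'] [Fintype M']
    [DecidableEq M'] (d : ActionData Q M) (d' : ActionData Q M') (n : ℕ) (q : Q) :
    kerCount (d.prod d') n q = kerCount d n q * kerCount d' n q := by
  have h : ∀ (n : ℕ) (v : M × M'),
      normSum (d.prod d') q n v = (normSum d q n v.1, normSum d' q n v.2) := by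
    intro n
    induction n with
    | zero => intro v; rfl
    | succ n ih => intro v; show v + (d.prod d').act q _ = _; rw [ih]; rfl
  rw [kerCount, kerCount, kerCount, ← Finset.card_product]
  congr 1
  ext v
  simp [h, Prod.ext_iff]

/-- `N n G` is the number of solutions of `x ^ n = 1`. -/
noncomputable def numRoots (G : Type) [Group G] (n : ℕ) : ℕ := Nat.card {g : G // g ^ n = 1}

def divs : List ℕ := [1, 2, 3, 4, 6, 7, 12, 14, 21, 28, 42, 84]

theorem dvd_eightyfour_mem : ∀ n < 85, n ∣ 84 → n ∈ divs := by decide +kernel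

/-- The numbers of solutions for the divisors of 84, the exponent dividing 84. -/
def HasCounts (G : Type) [Group G] (v : List ℕ) : Prop :=
  (∀ g : G, g ^ 84 = 1) ∧ divs.map (numRoots G) = v

theorem exponent_of_numRoots {G : Type} [Group G] [Finite G] {n : ℕ} (h : numRoots G n = Nat.card G) :
    ∀ g : G, g ^ n = 1 := by
  intro g
  by_contra hg
  have hlt : numRoots G n < Nat.card G := by
    have := Set.ncard_lt_ncard (s := {x : G | x ^ n = 1}) (t := Set.univ)
      ((Set.ssubset_univ_iff).mpr fun e => hg (by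
        have : g ∈ {x : G | x ^ n = 1} := e ▸ Set.mem_univ g
        exact this))
    rwa [← Nat.card_coe_set_eq, ← Nat.card_coe_set_eq, Nat.card_univ] at this
  omega

theorem numRoots_sdp [Fintype Q] [DecidableEq Q] [Fintype M] [DecidableEq M] (n : ℕ) :
    numRoots (Sdp d) n = ∑ q : Q, if q ^ n = 1 then kerCount d n q else 0 := by
  have h1 : numRoots (Sdp d) n = (Finset.univ.filter fun p : Q × M =>
      p.1 ^ n = 1 ∧ normSum d p.1 n p.2 = 0).card := by
    rw [numRoots, ← Fintype.card_subtype, ← Nat.card_eq_fintype_card]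
    refine Nat.card_congr (Equiv.subtypeEquiv
      { toFun := fun x => (x.a, Multiplicative.toAdd x.g),
        invFun := fun p => ⟨p.1, Multiplicative.ofAdd p.2⟩ } fun x => ?_)
    rw [pow_eq_normSum, Sdp.ext_iff]
    exact Iff.rfl
  rw [h1, Finset.card_filter, Fintype.sum_prod_type]
  refine Finset.sum_congr rfl fun q _ => ?_
  by_cases hq : q ^ n = 1
  · rw [if_pos hq, kerCount, Finset.card_filter]
    exact Finset.sum_congr rfl fun v _ => by simp [hq]
  · simp [hq]

theorem HasCounts.of_kerCount [Fintype Q] [DecidableEq Q] [Fintype M] [DecidableEq M]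
    (K : ℕ → Q → ℕ) (hK : ∀ n q, kerCount d n q = K n q) {v : List ℕ}
    (h : (∑ q : Q, if q ^ 84 = 1 then K 84 q else 0) = Fintype.card Q * Fintype.card M ∧
      divs.map (fun n => ∑ q : Q, if q ^ n = 1 then K n q else 0) = v) :
    HasCounts (Sdp d) v := by
  have key : ∀ n, numRoots (Sdp d) n = ∑ q : Q, if q ^ n = 1 then K n q else 0 := fun n => by
    rw [numRoots_sdp]; simp_rw [hK]
  refine ⟨exponent_of_numRoots ?_, ?_⟩
  · rw [key, h.1, ← Fintype.card_prod, ← Nat.card_eq_fintype_card]
    exact Nat.card_congr { toFun := fun p => ⟨p.1, Multiplicative.ofAdd p.2⟩,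
                           invFun := fun x => (x.a, Multiplicative.toAdd x.g) }
  · rw [← h.2]
    exact List.map_congr_left fun n _ => key n

theorem HasCounts.of_eq {G : Type} [Group G] [Fintype G] [DecidableEq G] {v : List ℕ}
    (h : (∀ g : G, g ^ 84 = 1) ∧
      divs.map (fun n => (Finset.univ.filter fun g : G => g ^ n = 1).card) = v) :
    HasCounts G v := by
  refine ⟨h.1, ?_⟩
  rw [← h.2]
  refine List.map_congr_left fun n _ => ?_
  rw [numRoots, Nat.card_eq_fintype_card, Fintype.card_subtype]

/-! Boolean `3 × 3` matrices, for counting in `SL(3,2)`. -/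

/-- Nine entries. -/
structure B33 where
  a : Bool
  b : Bool
  c : Bool
  e : Bool
  f : Bool
  g : Bool
  h : Bool
  i : Bool
  j : Bool
deriving DecidableEq

instance : Fintype B33 :=
  Fintype.ofEquiv ((Bool × Bool × Bool) × (Bool × Bool × Bool) × (Bool × Bool × Bool))
    { toFun := fun t => ⟨t.1.1, t.1.2.1, t.1.2.2, t.2.1.1, t.2.1.2.1, t.2.1.2.2, t.2.2.1, t.2.2.2.1, t.2.2.2.2⟩
      invFun := fun m => ((m.a, m.b, m.c), (m.e, m.f, m.g), (m.h, m.i, m.j)) }

def b2z (x : Bool) : ZMod 2 := if x then 1 else 0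

theorem b2z_xor (x y : Bool) : b2z (x ^^ y) = b2z x + b2z y := by cases x <;> cases y <;> decide

theorem b2z_and (x y : Bool) : b2z (x && y) = b2z x * b2z y := by cases x <;> cases y <;> decide

theorem b2z_injective : Function.Injective b2z := by decide

/-- Product of Boolean matrices. -/
def B33.mul (x y : B33) : B33 :=
  ⟨(x.a && y.a ^^ x.b && y.e) ^^ x.c && y.h, (x.a && y.b ^^ x.b && y.f) ^^ x.c && y.i,
    (x.a && y.c ^^ x.b && y.g) ^^ x.c && y.j,
   (x.e && y.a ^^ x.f && y.e) ^^ x.g && y.h, (x.e && y.b ^^ x.f && y.f) ^^ x.g && y.i,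
    (x.e && y.c ^^ x.f && y.g) ^^ x.g && y.j,
   (x.h && y.a ^^ x.i && y.e) ^^ x.j && y.h, (x.h && y.b ^^ x.i && y.f) ^^ x.j && y.i,
    (x.h && y.c ^^ x.i && y.g) ^^ x.j && y.j⟩

def B33.one : B33 := ⟨true, false, false, false, true, false, false, false, true⟩

/-- Powers, from the right. -/
def B33.pow (x : B33) : ℕ → B33
  | 0 => B33.one
  | n + 1 => B33.mul (B33.pow x n) x

/-- Determinant. -/
def B33.det (x : B33) : Bool :=
  (x.a && (x.f && x.j ^^ x.g && x.i) ^^ x.b && (x.e && x.j ^^ x.g && x.h)) ^^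
    x.c && (x.e && x.i ^^ x.f && x.h)

def B33.toMatrix (x : B33) : Matrix (Fin 3) (Fin 3) (ZMod 2) :=
  !![b2z x.a, b2z x.b, b2z x.c; b2z x.e, b2z x.f, b2z x.g; b2z x.h, b2z x.i, b2z x.j]

theorem B33.toMatrix_mul (x y : B33) : (x.mul y).toMatrix = x.toMatrix * y.toMatrix := by
  ext r c
  fin_cases r <;> fin_cases c <;>
    (simp [B33.toMatrix, B33.mul, Matrix.mul_apply, Fin.sum_univ_three, b2z_xor, b2z_and]; ring)

theorem B33.toMatrix_one : B33.one.toMatrix = 1 := by decide +kernel

theorem B33.toMatrix_pow (x : B33) (n : ℕ) : (x.pow n).toMatrix = x.toMatrix ^ n := by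
  induction n with
  | zero => exact B33.toMatrix_one
  | succ n ih => rw [B33.pow, B33.toMatrix_mul, ih, pow_succ]

theorem B33.toMatrix_injective : Function.Injective B33.toMatrix := by
  intro x y h
  have e : ∀ r c, x.toMatrix r c = y.toMatrix r c := fun r c => by rw [h]
  cases x; cases y
  simp only [B33.mk.injEq]
  exact ⟨b2z_injective (e 0 0), b2z_injective (e 0 1), b2z_injective (e 0 2),
    b2z_injective (e 1 0), b2z_injective (e 1 1), b2z_injective (e 1 2),
    b2z_injective (e 2 0), b2z_injective (e 2 1), b2z_injective (e 2 2)⟩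

theorem B33.b2z_det (x : B33) : x.toMatrix.det = b2z x.det := by
  rw [Matrix.det_fin_three]
  simp [B33.toMatrix, B33.det, b2z_xor, b2z_and]
  ring_nf
  grind

/-- The simple group of order 168, as `SL(3,2)`. -/
abbrev SL32 := Matrix.SpecialLinearGroup (Fin 3) (ZMod 2)

theorem B33.toMatrix_surjective : Function.Surjective B33.toMatrix := by
  intro m
  have key : ∀ z : ZMod 2, b2z (decide (z = 1)) = z := by decide
  refine ⟨⟨decide (m 0 0 = 1), decide (m 0 1 = 1), decide (m 0 2 = 1), decide (m 1 0 = 1),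
    decide (m 1 1 = 1), decide (m 1 2 = 1), decide (m 2 0 = 1), decide (m 2 1 = 1),
    decide (m 2 2 = 1)⟩, ?_⟩
  ext r c
  fin_cases r <;> fin_cases c <;> simp [B33.toMatrix, key]

theorem numRoots_SL32 (n : ℕ) :
    numRoots SL32 n = (Finset.univ.filter fun x : B33 => x.det = true ∧ x.pow n = B33.one).card := by
  have hcoe : ∀ (g : SL32) (k : ℕ), ((g ^ k : SL32) : Matrix (Fin 3) (Fin 3) (ZMod 2)) =
      (g : Matrix (Fin 3) (Fin 3) (ZMod 2)) ^ k := fun g k => Matrix.SpecialLinearGroup.coe_pow g k
  rw [numRoots, ← Fintype.card_subtype, ← Nat.card_eq_fintype_card]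
  symm
  refine Nat.card_eq_of_bijective (fun x => ⟨⟨x.1.toMatrix, by rw [B33.b2z_det, x.2.1]; rfl⟩, ?_⟩) ⟨?_, ?_⟩
  · apply Subtype.ext
    refine (hcoe _ _).trans ?_
    show x.1.toMatrix ^ n = 1
    rw [← B33.toMatrix_pow, x.2.2, B33.toMatrix_one]
  · intro x y h
    exact Subtype.ext (B33.toMatrix_injective (congrArg (fun g => (g.1.1)) h))
  · rintro ⟨⟨m, hm⟩, hg⟩
    obtain ⟨x, rfl⟩ := B33.toMatrix_surjective m
    have h1 : x.toMatrix ^ n = 1 := (hcoe _ _).symm.trans (congrArg Subtype.val hg)
    rw [← B33.toMatrix_pow] at h1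
    refine ⟨⟨x, ?_, B33.toMatrix_injective (h1.trans B33.toMatrix_one.symm)⟩, rfl⟩
    rw [B33.b2z_det] at hm
    exact b2z_injective hm

theorem hasCounts_SL32 {v : List ℕ}
    (h : ((Finset.univ.filter fun x : B33 => x.det = true ∧ x.pow 84 = B33.one).card = 168 ∧
      (Finset.univ.filter fun x : B33 => x.det = true).card = 168) ∧
      divs.map (fun n => (Finset.univ.filter fun x : B33 => x.det = true ∧ x.pow n = B33.one).card) = v) :
    HasCounts SL32 v := by
  refine ⟨exponent_of_numRoots ?_, ?_⟩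
  · rw [numRoots_SL32, h.1.1, ← h.1.2]
    have h0 : numRoots SL32 0 = Nat.card SL32 := Nat.card_congr
      (Equiv.subtypeUnivEquiv fun g => pow_zero g)
    rw [← h0, numRoots_SL32]
    simp [B33.pow]
  · rw [← h.2]
    exact List.map_congr_left fun n _ => numRoots_SL32 n

end CfsgLib.OrderType
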