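/-
Two groups with the same order type, one solvable and the other not: data and counts.
-/
import Cfsg.Agent.Lib.OrderType.Basic

set_option autoImplicit false
set_option maxRecDepth 100000

namespace CfsgLib.OrderType

/-- The action of `C_3` on `C_7` by squaring. -/
def actF21 (i : Multiplicative (ZMod 3)) (v : ZMod 7) : ZMod 7 := 2 ^ (Multiplicative.toAdd i).val * v

def okF21 : ActionData (Multiplicative (ZMod 3)) (ZMod 7) :=
  ⟨actF21, by decide +kernel, by decide +kernel, by decide +kernel⟩

/-- The nonabelian group of order 21. -/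
abbrev F21 := Sdp okF21

def act0 (q : Multiplicative (ZMod 2)) (v : ZMod 3) : ZMod 3 := (if Multiplicative.toAdd q = 0 then v else -v)

def c0 : ActionData (Multiplicative (ZMod 2)) (ZMod 3) :=
  ⟨act0, by decide +kernel, by decide +kernel, by decide +kernel⟩

def act1 (q : Multiplicative (ZMod 2)) (v : ZMod 2 × ZMod 2) : ZMod 2 × ZMod 2 := (if Multiplicative.toAdd q = 0 then v else (v.2, v.1))

def c1 : ActionData (Multiplicative (ZMod 2)) (ZMod 2 × ZMod 2) :=
  ⟨act1, by decide +kernel, by decide +kernel, by decide +kernel⟩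

def act2 (q : Multiplicative (ZMod 4)) (v : ZMod 3) : ZMod 3 := (if (Multiplicative.toAdd q).val % 2 = 0 then v else -v)

def c2 : ActionData (Multiplicative (ZMod 4)) (ZMod 3) :=
  ⟨act2, by decide +kernel, by decide +kernel, by decide +kernel⟩

def act3 (q : Multiplicative (ZMod 2)) (v : ZMod 7) : ZMod 7 := (if Multiplicative.toAdd q = 0 then v else -v)

def c3 : ActionData (Multiplicative (ZMod 2)) (ZMod 7) :=
  ⟨act3, by decide +kernel, by decide +kernel, by decide +kernel⟩

def act4 (q : Multiplicative (ZMod 2)) (v : ZMod 3 × ZMod 3) : ZMod 3 × ZMod 3 := (if Multiplicative.toAdd q = 0 then v else (-v.1, -v.2))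

def c4 : ActionData (Multiplicative (ZMod 2)) (ZMod 3 × ZMod 3) :=
  ⟨act4, by decide +kernel, by decide +kernel, by decide +kernel⟩

def act5 (q : Multiplicative (ZMod 3)) (v : ZMod 7) : ZMod 7 := ((2 : ZMod 7) ^ (Multiplicative.toAdd q).val * v)

def c5 : ActionData (Multiplicative (ZMod 3)) (ZMod 7) :=
  ⟨act5, by decide +kernel, by decide +kernel, by decide +kernel⟩

def act6 (q : Multiplicative (ZMod 4)) (v : ZMod 7) : ZMod 7 := (if (Multiplicative.toAdd q).val % 2 = 0 then v else -v)

def c6 : ActionData (Multiplicative (ZMod 4)) (ZMod 7) :=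
  ⟨act6, by decide +kernel, by decide +kernel, by decide +kernel⟩

def act7 (q : Multiplicative (ZMod 2)) (v : ZMod 2 × ZMod 2 × ZMod 2 × ZMod 2) : ZMod 2 × ZMod 2 × ZMod 2 × ZMod 2 := (if Multiplicative.toAdd q = 0 then v else (v.2.1, v.1, v.2.2.2, v.2.2.1))

def c7 : ActionData (Multiplicative (ZMod 2)) (ZMod 2 × ZMod 2 × ZMod 2 × ZMod 2) :=
  ⟨act7, by decide +kernel, by decide +kernel, by decide +kernel⟩

def act8 (q : Multiplicative (ZMod 4)) (v : ZMod 3 × ZMod 3) : ZMod 3 × ZMod 3 := (if (Multiplicative.toAdd q).val % 2 = 0 then v else (-v.1, -v.2))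

def c8 : ActionData (Multiplicative (ZMod 4)) (ZMod 3 × ZMod 3) :=
  ⟨act8, by decide +kernel, by decide +kernel, by decide +kernel⟩

def act9 (q : Multiplicative (ZMod 6)) (v : ZMod 7) : ZMod 7 := ((3 : ZMod 7) ^ (Multiplicative.toAdd q).val * v)

def c9 : ActionData (Multiplicative (ZMod 6)) (ZMod 7) :=
  ⟨act9, by decide +kernel, by decide +kernel, by decide +kernel⟩

def act10 (q : DihedralGroup 4) (v : ZMod 7) : ZMod 7 := (match q with | .r _ => v | .sr _ => -v)

def c10 : ActionData (DihedralGroup 4) (ZMod 7) :=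
  ⟨act10, by decide +kernel, by decide +kernel, by decide +kernel⟩

def act11 (q : Multiplicative (ZMod 12)) (v : ZMod 7) : ZMod 7 := ((3 : ZMod 7) ^ (Multiplicative.toAdd q).val * v)

def c11 : ActionData (Multiplicative (ZMod 12)) (ZMod 7) :=
  ⟨act11, by decide +kernel, by decide +kernel, by decide +kernel⟩

def act12 (q : Multiplicative (ZMod 2)) (v : ZMod 7 × ZMod 7) : ZMod 7 × ZMod 7 := (if Multiplicative.toAdd q = 0 then v else (-v.1, -v.2))

def c12 : ActionData (Multiplicative (ZMod 2)) (ZMod 7 × ZMod 7) :=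
  ⟨act12, by decide +kernel, by decide +kernel, by decide +kernel⟩

def act13 (q : Multiplicative (ZMod 3)) (v : ZMod 7 × ZMod 7) : ZMod 7 × ZMod 7 := (match (Multiplicative.toAdd q).val with | 0 => v | 1 => (v.2, 6 * v.1 + 6 * v.2) | _ => (6 * v.1 + 6 * v.2, v.1))

def c13 : ActionData (Multiplicative (ZMod 3)) (ZMod 7 × ZMod 7) :=
  ⟨act13, by decide +kernel, by decide +kernel, by decide +kernel⟩

def act14 (q : F21) (v : ZMod 2 × ZMod 2 × ZMod 2) : ZMod 2 × ZMod 2 × ZMod 2 := (Nat.iterate (fun w : ZMod 2 × ZMod 2 × ZMod 2 => (w.2.1, w.2.2, w.1 + w.2.1)) (Multiplicative.toAdd q.g).val (Nat.iterate (fun w : ZMod 2 × ZMod 2 × ZMod 2 => (w.1, w.2.1 + w.2.2, w.2.1)) q.a.val v))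

def c14 : ActionData (F21) (ZMod 2 × ZMod 2 × ZMod 2) :=
  ⟨act14, by decide +kernel, by decide +kernel, by decide +kernel⟩

def act15 (q : DihedralGroup 4) (v : ZMod 3) : ZMod 3 := (match q with | .r i => (-1 : ZMod 3) ^ i.val * v | .sr i => (-1 : ZMod 3) ^ i.val * v)

def c15 : ActionData (DihedralGroup 4) (ZMod 3) :=
  ⟨act15, by decide +kernel, by decide +kernel, by decide +kernel⟩

def act16 (q : DihedralGroup 4) (v : ZMod 7) : ZMod 7 := (match q with | .r i => (-1 : ZMod 7) ^ i.val * v | .sr i => (-1 : ZMod 7) ^ (i.val + 1) * v)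

def c16 : ActionData (DihedralGroup 4) (ZMod 7) :=
  ⟨act16, by decide +kernel, by decide +kernel, by decide +kernel⟩

def act17 (q : Multiplicative (ZMod 6)) (v : ZMod 7 × ZMod 7) : ZMod 7 × ZMod 7 := (Nat.iterate (fun w : ZMod 7 × ZMod 7 => (w.2, 3 * w.1 + 2 * w.2)) (Multiplicative.toAdd q).val v)

def c17 : ActionData (Multiplicative (ZMod 6)) (ZMod 7 × ZMod 7) :=
  ⟨act17, by decide +kernel, by decide +kernel, by decide +kernel⟩

def act18 (q : DihedralGroup 3) (v : ZMod 7 × ZMod 7) : ZMod 7 × ZMod 7 := (match q with | .r i => Nat.iterate (fun w : ZMod 7 × ZMod 7 => (w.2, 6 * w.1 + 6 * w.2)) i.val v | .sr i => (Nat.iterate (fun w : ZMod 7 × ZMod 7 => (w.2, 6 * w.1 + 6 * w.2)) i.val v).swap)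

def c18 : ActionData (DihedralGroup 3) (ZMod 7 × ZMod 7) :=
  ⟨act18, by decide +kernel, by decide +kernel, by decide +kernel⟩

def act19 (q : DihedralGroup 4) (v : ZMod 7 × ZMod 7) : ZMod 7 × ZMod 7 := (match q with | .r i => Nat.iterate (fun w : ZMod 7 × ZMod 7 => (w.2, -w.1)) i.val v | .sr i => (Nat.iterate (fun w : ZMod 7 × ZMod 7 => (w.2, -w.1)) i.val v).swap)

def c19 : ActionData (DihedralGroup 4) (ZMod 7 × ZMod 7) :=
  ⟨act19, by decide +kernel, by decide +kernel, by decide +kernel⟩

theorem counts0 : HasCounts (Multiplicative (ZMod 2)) [1, 2, 1, 2, 2, 1, 2, 2, 1, 2, 2, 2] :=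
  HasCounts.of_eq (by decide +kernel)

theorem counts1 : HasCounts (Multiplicative (ZMod 4)) [1, 2, 1, 4, 2, 1, 4, 2, 1, 4, 2, 4] :=
  HasCounts.of_eq (by decide +kernel)

/-- Solvable building block of order 6. -/
abbrev G2 := Sdp c0

theorem counts2 : HasCounts G2 [1, 4, 3, 4, 6, 1, 6, 4, 3, 4, 6, 6] :=
  HasCounts.of_kerCount (fun n q => kerCount c0 n q) (fun n q => rfl) (by decide +kernel)

theorem counts3 : HasCounts (Multiplicative (ZMod 7)) [1, 1, 1, 1, 1, 7, 1, 7, 7, 7, 7, 7] :=
  HasCounts.of_eq (by decide +kernel)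

/-- Solvable building block of order 8. -/
abbrev G4 := Sdp c1

theorem counts4 : HasCounts G4 [1, 6, 1, 8, 6, 1, 8, 6, 1, 8, 6, 8] :=
  HasCounts.of_kerCount (fun n q => kerCount c1 n q) (fun n q => rfl) (by decide +kernel)

/-- Solvable building block of order 12. -/
abbrev G5 := Sdp c2

theorem counts5 : HasCounts G5 [1, 2, 3, 8, 6, 1, 12, 2, 3, 8, 6, 12] :=
  HasCounts.of_kerCount (fun n q => kerCount c2 n q) (fun n q => rfl) (by decide +kernel)

/-- Solvable building block of order 14. -/
abbrev G6 := Sdp c3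

theorem counts6 : HasCounts G6 [1, 8, 1, 8, 8, 7, 8, 14, 7, 14, 14, 14] :=
  HasCounts.of_kerCount (fun n q => kerCount c3 n q) (fun n q => rfl) (by decide +kernel)

/-- Solvable building block of order 18. -/
abbrev G7 := Sdp c4

theorem counts7 : HasCounts G7 [1, 10, 9, 10, 18, 1, 18, 10, 9, 10, 18, 18] :=
  HasCounts.of_kerCount (fun n q => kerCount c4 n q) (fun n q => rfl) (by decide +kernel)

/-- Solvable building block of order 21. -/
abbrev G8 := Sdp c5

theorem counts8 : HasCounts G8 [1, 1, 15, 1, 15, 7, 15, 7, 21, 7, 21, 21] :=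
  HasCounts.of_kerCount (fun n q => kerCount c5 n q) (fun n q => rfl) (by decide +kernel)

/-- Solvable building block of order 24. -/
abbrev G9 := Sdp (c1.prod c0)

theorem counts9 : HasCounts G9 [1, 10, 3, 16, 18, 1, 24, 10, 3, 16, 18, 24] :=
  HasCounts.of_kerCount (fun n q => kerCount c1 n q * (kerCount c0 n q)) (fun n q => (kerCount_prod _ _ n q)) (by decide +kernel)

/-- Solvable building block of order 28. -/
abbrev G10 := Sdp c6

theorem counts10 : HasCounts G10 [1, 2, 1, 16, 2, 7, 16, 14, 7, 28, 14, 28] :=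
  HasCounts.of_kerCount (fun n q => kerCount c6 n q) (fun n q => rfl) (by decide +kernel)

/-- Solvable building block of order 32. -/
abbrev G11 := Sdp c7

theorem counts11 : HasCounts G11 [1, 20, 1, 32, 20, 1, 32, 20, 1, 32, 20, 32] :=
  HasCounts.of_kerCount (fun n q => kerCount c7 n q) (fun n q => rfl) (by decide +kernel)

/-- Solvable building block of order 36. -/
abbrev G12 := Sdp c8

theorem counts12 : HasCounts G12 [1, 2, 9, 20, 18, 1, 36, 2, 9, 20, 18, 36] :=
  HasCounts.of_kerCount (fun n q => kerCount c8 n q) (fun n q => rfl) (by decide +kernel)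

/-- Solvable building block of order 42. -/
abbrev G13 := Sdp (c0.prod c3)

theorem counts13 : HasCounts G13 [1, 22, 3, 22, 24, 7, 24, 28, 21, 28, 42, 42] :=
  HasCounts.of_kerCount (fun n q => kerCount c0 n q * (kerCount c3 n q)) (fun n q => (kerCount_prod _ _ n q)) (by decide +kernel)

/-- Solvable building block of order 42. -/
abbrev G14 := Sdp c9

theorem counts14 : HasCounts G14 [1, 8, 15, 8, 36, 7, 36, 14, 21, 14, 42, 42] :=
  HasCounts.of_kerCount (fun n q => kerCount c9 n q) (fun n q => rfl) (by decide +kernel)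

/-- Solvable building block of order 56. -/
abbrev G15 := Sdp c10

theorem counts15 : HasCounts G15 [1, 30, 1, 32, 30, 7, 32, 42, 7, 56, 42, 56] :=
  HasCounts.of_kerCount (fun n q => kerCount c10 n q) (fun n q => rfl) (by decide +kernel)

/-- Solvable building block of order 72. -/
abbrev G16 := Sdp (c1.prod c4)

theorem counts16 : HasCounts G16 [1, 22, 9, 40, 54, 1, 72, 22, 9, 40, 54, 72] :=
  HasCounts.of_kerCount (fun n q => kerCount c1 n q * (kerCount c4 n q)) (fun n q => (kerCount_prod _ _ n q)) (by decide +kernel)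

/-- Solvable building block of order 84. -/
abbrev G17 := Sdp (c2.prod c6)

theorem counts17 : HasCounts G17 [1, 2, 3, 44, 6, 7, 48, 14, 21, 56, 42, 84] :=
  HasCounts.of_kerCount (fun n q => kerCount c2 n q * (kerCount c6 n q)) (fun n q => (kerCount_prod _ _ n q)) (by decide +kernel)

/-- Solvable building block of order 84. -/
abbrev G18 := Sdp c11

theorem counts18 : HasCounts G18 [1, 2, 15, 16, 30, 7, 72, 14, 21, 28, 42, 84] :=
  HasCounts.of_kerCount (fun n q => kerCount c11 n q) (fun n q => rfl) (by decide +kernel)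

/-- Solvable building block of order 98. -/
abbrev G19 := Sdp c12

theorem counts19 : HasCounts G19 [1, 50, 1, 50, 50, 49, 50, 98, 49, 98, 98, 98] :=
  HasCounts.of_kerCount (fun n q => kerCount c12 n q) (fun n q => rfl) (by decide +kernel)

/-- Solvable building block of order 126. -/
abbrev G20 := Sdp (c4.prod c3)

theorem counts20 : HasCounts G20 [1, 64, 9, 64, 72, 7, 72, 70, 63, 70, 126, 126] :=
  HasCounts.of_kerCount (fun n q => kerCount c4 n q * (kerCount c3 n q)) (fun n q => (kerCount_prod _ _ n q)) (by decide +kernel)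

/-- Solvable building block of order 147. -/
abbrev G21 := Sdp c13

theorem counts21 : HasCounts G21 [1, 1, 99, 1, 99, 49, 99, 49, 147, 49, 147, 147] :=
  HasCounts.of_kerCount (fun n q => kerCount c13 n q) (fun n q => rfl) (by decide +kernel)

/-- Solvable building block of order 168. -/
abbrev G22 := Sdp c14

theorem counts22 : HasCounts G22 [1, 8, 57, 8, 120, 49, 120, 56, 105, 56, 168, 168] :=
  HasCounts.of_kerCount (fun n q => kerCount c14 n q) (fun n q => rfl) (by decide +kernel)

/-- Solvable building block of order 168. -/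
abbrev G23 := Sdp (c15.prod c16)

theorem counts23 : HasCounts G23 [1, 22, 3, 64, 54, 7, 96, 70, 21, 112, 126, 168] :=
  HasCounts.of_kerCount (fun n q => kerCount c15 n q * (kerCount c16 n q)) (fun n q => (kerCount_prod _ _ n q)) (by decide +kernel)

/-- Solvable building block of order 224. -/
abbrev G24 := Sdp (c7.prod c3)

theorem counts24 : HasCounts G24 [1, 44, 1, 128, 44, 7, 128, 140, 7, 224, 140, 224] :=
  HasCounts.of_kerCount (fun n q => kerCount c7 n q * (kerCount c3 n q)) (fun n q => (kerCount_prod _ _ n q)) (by decide +kernel)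

/-- Solvable building block of order 252. -/
abbrev G25 := Sdp (c8.prod c6)

theorem counts25 : HasCounts G25 [1, 2, 9, 128, 18, 7, 144, 14, 63, 140, 126, 252] :=
  HasCounts.of_kerCount (fun n q => kerCount c8 n q * (kerCount c6 n q)) (fun n q => (kerCount_prod _ _ n q)) (by decide +kernel)

/-- Solvable building block of order 294. -/
abbrev G26 := Sdp c17

theorem counts26 : HasCounts G26 [1, 50, 15, 50, 162, 49, 162, 98, 147, 98, 294, 294] :=
  HasCounts.of_kerCount (fun n q => kerCount c17 n q) (fun n q => rfl) (by decide +kernel)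

/-- Solvable building block of order 294. -/
abbrev G27 := Sdp c18

theorem counts27 : HasCounts G27 [1, 22, 99, 22, 120, 49, 120, 196, 147, 196, 294, 294] :=
  HasCounts.of_kerCount (fun n q => kerCount c18 n q) (fun n q => rfl) (by decide +kernel)

/-- Solvable building block of order 392. -/
abbrev G28 := Sdp c19

theorem counts28 : HasCounts G28 [1, 78, 1, 176, 78, 49, 176, 294, 49, 392, 294, 392] :=
  HasCounts.of_kerCount (fun n q => kerCount c19 n q) (fun n q => rfl) (by decide +kernel)

/-- Solvable building block of order 504. -/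
abbrev G29 := Sdp (c4.prod (c1.prod c3))

theorem counts29 : HasCounts G29 [1, 130, 9, 256, 162, 7, 288, 154, 63, 280, 378, 504] :=
  HasCounts.of_kerCount (fun n q => kerCount c4 n q * (kerCount c1 n q * (kerCount c3 n q))) (fun n q => ((kerCount_prod _ _ n q).trans (congrArg _ (kerCount_prod _ _ n q)))) (by decide +kernel)

theorem countsSL : HasCounts SL32 [1, 22, 57, 64, 78, 49, 120, 70, 105, 112, 126, 168] :=
  hasCounts_SL32 (by decide +kernel)

end CfsgLib.OrderType
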