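/-
A solvable and a nonsolvable group with the same number of elements of each order.
-/
import Cfsg.Agent.Lib.OrderType.Data

set_option autoImplicit false
set_option maxRecDepth 10000
set_option synthInstance.maxSize 4000
set_option synthInstance.maxHeartbeats 400000

namespace CfsgLib.OrderType

theorem numRoots_prod (A B : Type) [Group A] [Group B] (n : ℕ) :
    numRoots (A × B) n = numRoots A n * numRoots B n := by
  rw [numRoots, numRoots, numRoots, ← Nat.card_prod]
  refine Nat.card_congr ((Equiv.subtypeEquivRight fun x => ?_).trans Equiv.subtypeProdEquivProd)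
  simp [Prod.ext_iff]

theorem numRoots_pi (A : Type) [Group A] (e n : ℕ) :
    numRoots (Fin e → A) n = numRoots A n ^ e := by
  rw [numRoots, numRoots]
  have h : {g : Fin e → A // g ^ n = 1} ≃ (Fin e → {a : A // a ^ n = 1}) :=
    (Equiv.subtypeEquivRight fun g => by simp [funext_iff]).trans
      (Equiv.subtypePiEquivPi (p := fun _ a => a ^ n = 1))
  rw [Nat.card_congr h, Nat.card_fun, Nat.card_eq_fintype_card (α := Fin e), Fintype.card_fin]

theorem HasCounts.prod {A B : Type} [Group A] [Group B] {u v : List ℕ}
    (ha : HasCounts A u) (hb : HasCounts B v) : HasCounts (A × B) (List.zipWith (· * ·) u v) := by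
  refine ⟨fun g => Prod.ext (ha.1 g.1) (hb.1 g.2), ?_⟩
  rw [← ha.2, ← hb.2, List.zipWith_map, List.zipWith_self]
  exact List.map_congr_left fun n _ => numRoots_prod A B n

theorem HasCounts.pi {A : Type} [Group A] {v : List ℕ} (ha : HasCounts A v) (e : ℕ) :
    HasCounts (Fin e → A) (v.map (· ^ e)) := by
  refine ⟨fun g => funext fun i => ha.1 (g i), ?_⟩
  rw [← ha.2, List.map_map]
  exact List.map_congr_left fun n _ => numRoots_pi A e n

theorem numRoots_gcd {A : Type} [Group A] {v : List ℕ} (ha : HasCounts A v) (n : ℕ) :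
    numRoots A n = numRoots A (Nat.gcd n 84) := by
  refine Nat.card_congr (Equiv.subtypeEquivRight fun g => ?_)
  rw [pow_gcd_eq_one]
  exact ⟨fun h => ⟨h, ha.1 g⟩, fun h => h.1⟩

theorem HasCounts.numRoots_eq {A B : Type} [Group A] [Group B] {u v : List ℕ}
    (ha : HasCounts A u) (hb : HasCounts B v) (huv : u = v) (n : ℕ) :
    numRoots A n = numRoots B n := by
  rw [numRoots_gcd ha, numRoots_gcd hb]
  have hd : Nat.gcd n 84 ∈ divs := dvd_eightyfour_mem _
    (Nat.lt_succ_of_le (Nat.le_of_dvd (by norm_num) (Nat.gcd_dvd_right n 84))) (Nat.gcd_dvd_right n 84)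
  exact List.map_inj_left.mp (ha.2.trans (huv.trans hb.2.symm)) _ hd

theorem card_orderOf_eq_of_numRoots_eq {A B : Type} [Group A] [Group B] [Finite A] [Finite B]
    (h : ∀ n, numRoots A n = numRoots B n) (n : ℕ) :
    Nat.card {a : A // orderOf a = n} = Nat.card {b : B // orderOf b = n} := by
  induction n using Nat.strong_induction_on with
  | _ n ih =>
    rcases Nat.eq_zero_or_pos n with rfl | hn
    · have e : ∀ (C : Type) [Group C] [Finite C], Nat.card {c : C // orderOf c = 0} = 0 := by
        intro C _ _
        have : IsEmpty {c : C // orderOf c = 0} := ⟨fun c => (orderOf_pos c.1).ne' c.2⟩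
        exact Nat.card_of_isEmpty
      rw [e A, e B]
    classical
    cases nonempty_fintype A
    cases nonempty_fintype B
    have key : ∀ (C : Type) [Group C] [Fintype C],
        numRoots C n = Nat.card {c : C // orderOf c = n} +
          ∑ m ∈ n.properDivisors, Nat.card {c : C // orderOf c = m} := by
      intro C _ _
      have := sum_card_orderOf_eq_card_pow_eq_one (G := C) hn.ne'
      rw [numRoots, Nat.card_eq_fintype_card, Fintype.card_subtype, ← this,
        ← Nat.insert_self_properDivisors hn.ne', Finset.sum_insert Nat.self_notMem_properDivisors]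
      simp only [Nat.card_eq_fintype_card, Fintype.card_subtype]
    have hA := key A
    have hB := key B
    have hs : ∑ m ∈ n.properDivisors, Nat.card {c : A // orderOf c = m} =
        ∑ m ∈ n.properDivisors, Nat.card {c : B // orderOf c = m} :=
      Finset.sum_congr rfl fun m hm => ih m (Nat.mem_properDivisors.mp hm).2
    have := h n
    omega

theorem isSolvable_prod {A B : Type} [Group A] [Group B] (ha : Group.IsSolvable A)
    (hb : Group.IsSolvable B) : Group.IsSolvable (A × B) := inferInstance

theorem isSolvable_pi {A : Type} [Group A] (e : ℕ) (ha : Group.IsSolvable A) :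
    Group.IsSolvable (Fin e → A) := by
  obtain ⟨k, hk⟩ := ha
  refine ⟨⟨k, eq_bot_iff.mpr fun g hg => funext fun i => ?_⟩⟩
  have := map_derivedSeries_le_derivedSeries (Pi.evalMonoidHom (fun _ : Fin e => A) i) k
    (Subgroup.mem_map_of_mem _ hg)
  rwa [hk, Subgroup.mem_bot] at this

theorem isSolvable_dihedral (n : ℕ) : Group.IsSolvable (DihedralGroup n) := by
  let i : Multiplicative (ZMod n) →* DihedralGroup n :=
    { toFun := fun v => .r (Multiplicative.toAdd v)
      map_one' := rfl
      map_mul' := fun _ _ => rfl }
  let f : DihedralGroup n →* Multiplicative (ZMod 2) :=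
    { toFun := fun x => match x with | .r _ => 1 | .sr _ => Multiplicative.ofAdd 1
      map_one' := rfl
      map_mul' := fun x y => by cases x <;> cases y <;> first | rfl | (show (1 : Multiplicative (ZMod 2)) = Multiplicative.ofAdd 1 * Multiplicative.ofAdd 1; decide) }
  refine Group.isSolvable_of_ker_le_range i f fun x hx => ?_
  cases x with
  | r j => exact ⟨Multiplicative.ofAdd j, rfl⟩
  | sr j => exact absurd hx (by simp only [MonoidHom.mem_ker]; exact (by decide : Multiplicative.ofAdd (1 : ZMod 2) ≠ 1))

/-- A transvection. -/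
def tv (i j : Fin 3) : SL32 :=
  if h : i = j then 1 else ⟨1 + Matrix.single i j 1, by revert h; revert i j; decide +kernel⟩

theorem not_isSolvable_SL32 : ¬ Group.IsSolvable SL32 := by
  intro ⟨k, hk⟩
  have key : ∀ (k : ℕ) (i j : Fin 3), i ≠ j → tv i j ∈ derivedSeries SL32 k := by
    intro k
    induction k with
    | zero => intro i j _; simp
    | succ k ih =>
      intro i j hij
      have h3 : ∀ i j : Fin 3, i ≠ j → ∃ l, i ≠ l ∧ l ≠ j ∧
          tv i l * tv l j * (tv i l * tv l j) = tv i j ∧ tv i l * tv i l = 1 ∧ tv l j * tv l j = 1 := by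
        decide +kernel
      obtain ⟨l, h1, h2, h, e1, e2⟩ := h3 i j hij
      rw [derivedSeries_succ]
      have := Subgroup.commutator_mem_commutator (ih i l h1) (ih l j h2)
      rwa [commutatorElement_def, inv_eq_of_mul_eq_one_right e1, inv_eq_of_mul_eq_one_right e2,
        mul_assoc, h] at this
  have := key k 0 1 (by decide)
  rw [hk, Subgroup.mem_bot] at this
  exact absurd this (by decide +kernel)

theorem sol1 : Group.IsSolvable (Multiplicative (ZMod 4)) := inferInstance

theorem sol2 : Group.IsSolvable G2 := by
  have := isSolvable_dihedral 3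
  have := isSolvable_dihedral 4
  have : Group.IsSolvable F21 := isSolvable_sdp
  exact isSolvable_sdp

theorem sol5 : Group.IsSolvable G5 := by
  have := isSolvable_dihedral 3
  have := isSolvable_dihedral 4
  have : Group.IsSolvable F21 := isSolvable_sdp
  exact isSolvable_sdp

theorem sol6 : Group.IsSolvable G6 := by
  have := isSolvable_dihedral 3
  have := isSolvable_dihedral 4
  have : Group.IsSolvable F21 := isSolvable_sdp
  exact isSolvable_sdp

theorem sol7 : Group.IsSolvable G7 := by
  have := isSolvable_dihedral 3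
  have := isSolvable_dihedral 4
  have : Group.IsSolvable F21 := isSolvable_sdp
  exact isSolvable_sdp

theorem sol8 : Group.IsSolvable G8 := by
  have := isSolvable_dihedral 3
  have := isSolvable_dihedral 4
  have : Group.IsSolvable F21 := isSolvable_sdp
  exact isSolvable_sdp

theorem sol9 : Group.IsSolvable G9 := by
  have := isSolvable_dihedral 3
  have := isSolvable_dihedral 4
  have : Group.IsSolvable F21 := isSolvable_sdp
  exact isSolvable_sdp

theorem sol15 : Group.IsSolvable G15 := by
  have := isSolvable_dihedral 3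
  have := isSolvable_dihedral 4
  have : Group.IsSolvable F21 := isSolvable_sdp
  exact isSolvable_sdp

theorem sol16 : Group.IsSolvable G16 := by
  have := isSolvable_dihedral 3
  have := isSolvable_dihedral 4
  have : Group.IsSolvable F21 := isSolvable_sdp
  exact isSolvable_sdp

theorem sol22 : Group.IsSolvable G22 := by
  have := isSolvable_dihedral 3
  have := isSolvable_dihedral 4
  have : Group.IsSolvable F21 := isSolvable_sdp
  exact isSolvable_sdp

theorem sol24 : Group.IsSolvable G24 := by
  have := isSolvable_dihedral 3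
  have := isSolvable_dihedral 4
  have : Group.IsSolvable F21 := isSolvable_sdp
  exact isSolvable_sdp

theorem sol25 : Group.IsSolvable G25 := by
  have := isSolvable_dihedral 3
  have := isSolvable_dihedral 4
  have : Group.IsSolvable F21 := isSolvable_sdp
  exact isSolvable_sdp

theorem sol26 : Group.IsSolvable G26 := by
  have := isSolvable_dihedral 3
  have := isSolvable_dihedral 4
  have : Group.IsSolvable F21 := isSolvable_sdp
  exact isSolvable_sdp

theorem sol27 : Group.IsSolvable G27 := by
  have := isSolvable_dihedral 3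
  have := isSolvable_dihedral 4
  have : Group.IsSolvable F21 := isSolvable_sdp
  exact isSolvable_sdp

theorem sol28 : Group.IsSolvable G28 := by
  have := isSolvable_dihedral 3
  have := isSolvable_dihedral 4
  have : Group.IsSolvable F21 := isSolvable_sdp
  exact isSolvable_sdp

/-- The solvable group. -/
abbrev SolvG := ((Fin 45 → (Multiplicative (ZMod 4))) × ((Fin 18 → G2) × ((Fin 6 → G5) × ((Fin 39 → G6) × ((Fin 12 → G7) × ((Fin 8 → G8) × ((Fin 30 → G9) × ((Fin 6 → G15) × ((Fin 24 → G16) × ((Fin 24 → G22) × ((Fin 24 → G24) × ((Fin 36 → G25) × ((Fin 16 → G26) × ((Fin 24 → G27) × (Fin 24 → G28)))))))))))))))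

/-- The nonsolvable group. -/
abbrev NonsolvH := ((Fin 24 → SL32) × ((Fin 93 → (Multiplicative (ZMod 2))) × ((Fin 8 → (Multiplicative (ZMod 7))) × ((Fin 30 → G4) × ((Fin 39 → G10) × ((Fin 24 → G11) × ((Fin 36 → G12) × ((Fin 42 → G13) × ((Fin 18 → G14) × ((Fin 6 → G17) × ((Fin 6 → G18) × ((Fin 16 → G19) × ((Fin 12 → G20) × ((Fin 24 → G21) × ((Fin 6 → G23) × (Fin 24 → G29))))))))))))))))

theorem isSolvable_solvG : Group.IsSolvable SolvG :=
  (isSolvable_prod (isSolvable_pi 45 sol1) (isSolvable_prod (isSolvable_pi 18 sol2) (isSolvable_prod (isSolvable_pi 6 sol5) (isSolvable_prod (isSolvable_pi 39 sol6) (isSolvable_prod (isSolvable_pi 12 sol7) (isSolvable_prod (isSolvable_pi 8 sol8) (isSolvable_prod (isSolvable_pi 30 sol9) (isSolvable_prod (isSolvable_pi 6 sol15) (isSolvable_prod (isSolvable_pi 24 sol16) (isSolvable_prod (isSolvable_pi 24 sol22) (isSolvable_prod (isSolvable_pi 24 sol24) (isSolvable_prod (isSolvable_pi 36 sol25) (isSolvable_prod (isSolvable_pi 16 sol26) (isSolvable_prod (isSolvable_pi 24 sol27) (isSolvable_pi 24 sol28)))))))))))))))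

theorem same_order_type (n : ℕ) :
    Nat.card {g : SolvG // orderOf g = n} = Nat.card {h : NonsolvH // orderOf h = n} :=
  card_orderOf_eq_of_numRoots_eq
    (HasCounts.numRoots_eq
      ((counts1.pi 45).prod ((counts2.pi 18).prod ((counts5.pi 6).prod ((counts6.pi 39).prod ((counts7.pi 12).prod ((counts8.pi 8).prod ((counts9.pi 30).prod ((counts15.pi 6).prod ((counts16.pi 24).prod ((counts22.pi 24).prod ((counts24.pi 24).prod ((counts25.pi 36).prod ((counts26.pi 16).prod ((counts27.pi 24).prod (counts28.pi 24)))))))))))))))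
      ((countsSL.pi 24).prod ((counts0.pi 93).prod ((counts3.pi 8).prod ((counts4.pi 30).prod ((counts10.pi 39).prod ((counts11.pi 24).prod ((counts12.pi 36).prod ((counts13.pi 42).prod ((counts14.pi 18).prod ((counts17.pi 6).prod ((counts18.pi 6).prod ((counts19.pi 16).prod ((counts20.pi 12).prod ((counts21.pi 24).prod ((counts23.pi 6).prod (counts29.pi 24))))))))))))))))
      (by decide +kernel)) n

theorem not_isSolvable_nonsolvH : ¬ Group.IsSolvable NonsolvH := fun h => by
  let f : NonsolvH →* SL32 :=
    { toFun := fun x => x.1 0, map_one' := rfl, map_mul' := fun _ _ => rfl }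
  refine not_isSolvable_SL32 (Group.isSolvable_of_surjective (f := f) ?_)
  exact fun x => ⟨(fun _ => x, 1), rfl⟩

end CfsgLib.OrderType
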